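import Mathlib

set_option autoImplicit false

/-! # A certificate criterion for a point stabilizer to be a maximal subgroup

`H` acts on `Ω`; the orbit of `q` is covered by `{q}` and finitely many finite sets `S j`, each of
which lies in a single orbit of the stabilizer of `q`.  If no proper nonempty sub-sum
`1 + ∑_{j ∈ T} |S j|` divides the orbit length, the stabilizer of `q` is a maximal subgroup. -/

namespace Cfsg.Agent.Lib.Helper4.G24E

open MulAction

section abstract

variable {H : Type*} [Group H] {Ω : Type*} [MulAction H Ω]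

/-- the stabilizer in a subgroup `M` of a point, as a `subgroupOf` -/
theorem stabilizer_subgroup_eq (M : Subgroup H) (q : Ω) :
    stabilizer ↥M q = (stabilizer H q).subgroupOf M := by
  ext m
  rw [mem_stabilizer_iff, Subgroup.mem_subgroupOf, mem_stabilizer_iff]
  rfl

open Classical in
theorem stabilizer_max_of_cert [Finite H] [Finite Ω] (q : Ω) {r : ℕ} (S : Fin r → Set Ω) (s : Fin r → ℕ)
    (n : ℕ) (hs : ∀ j, (S j).ncard = s j)
    (hn : (orbit H q).ncard = n)
    (hcov : orbit H q ⊆ {q} ∪ ⋃ j, S j)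
    (hq : ∀ j, q ∉ S j)
    (hdisj : ∀ i j, i ≠ j → Disjoint (S i) (S j))
    (hconn : ∀ j, ∀ x ∈ S j, ∀ y ∈ S j, y ∈ orbit (stabilizer H q) x)
    (hdvd : ∀ T : Finset (Fin r), (1 + ∑ j ∈ T, s j) ∣ n → T = ∅ ∨ T = Finset.univ)
    (hsum : 1 + ∑ j, s j = n) :
    ∀ M : Subgroup H, stabilizer H q ≤ M → M = stabilizer H q ∨ M = ⊤ := by
  intro M hKM
  set B : Set Ω := orbit ↥M q with hB
  have hBsub : B ⊆ orbit H q := by
    rintro _ ⟨m, rfl⟩
    exact ⟨(m : H), rfl⟩
  have hqB : q ∈ B := mem_orbit_self q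
  set T : Finset (Fin r) := Finset.univ.filter (fun j => ∃ x ∈ S j, x ∈ B) with hT
  have hSB : ∀ j ∈ T, S j ⊆ B := by
    intro j hj y hy
    obtain ⟨x, hxS, hxB⟩ := (Finset.mem_filter.mp hj).2
    obtain ⟨k, rfl⟩ := hconn j x hxS y hy
    obtain ⟨m, rfl⟩ := hxB
    refine ⟨⟨(k : H), hKM k.2⟩ * m, ?_⟩
    show (⟨(k : H), hKM k.2⟩ * m : ↥M) • q = k • (m • q)
    rw [mul_smul]
    rfl
  have hBeq : B = {q} ∪ ⋃ j ∈ T, S j := by
    apply Set.Subset.antisymm
    · intro x hx
      rcases hcov (hBsub hx) with h | h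
      · exact Or.inl h
      · obtain ⟨j, hj⟩ := Set.mem_iUnion.mp h
        refine Or.inr (Set.mem_iUnion₂.mpr ⟨j, ?_, hj⟩)
        exact Finset.mem_filter.mpr ⟨Finset.mem_univ _, x, hj, hx⟩
    · rintro x (h | h)
      · rw [Set.mem_singleton_iff] at h
        rw [h]
        exact hqB
      · obtain ⟨j, hj, hx⟩ := Set.mem_iUnion₂.mp h
        exact hSB j hj hx
  -- the cardinality of `B`
  have hcardU : ∀ T' : Finset (Fin r), (⋃ j ∈ T', S j).ncard = ∑ j ∈ T', s j := by
    intro T'
    induction T' using Finset.induction_on with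
    | empty => simp
    | insert a T' ha ih =>
      rw [Finset.set_biUnion_insert, Finset.sum_insert ha, ← ih, ← hs a]
      apply Set.ncard_union_eq _ (Set.toFinite _) (Set.toFinite _)
      rw [Set.disjoint_iUnion₂_right]
      intro j hj
      exact hdisj a j (fun h => ha (h ▸ hj))
  have hBcard : B.ncard = 1 + ∑ j ∈ T, s j := by
    rw [hBeq, Set.ncard_union_eq _ (Set.toFinite _) (Set.toFinite _), Set.ncard_singleton, hcardU]
    rw [Set.disjoint_singleton_left]
    intro h
    obtain ⟨j, _, hx⟩ := Set.mem_iUnion₂.mp h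
    exact hq j hx
  -- the index computation
  have hidx : B.ncard * M.index = n := by
    rw [hB, ← index_stabilizer, stabilizer_subgroup_eq, ← hn, ← index_stabilizer]
    exact Subgroup.relIndex_mul_index hKM
  have hn0 : 0 < n := by rw [← hsum]; omega
  rcases hdvd T (by rw [← hBcard]; exact Dvd.intro _ hidx) with h | h
  · left
    apply le_antisymm _ hKM
    intro m hm
    have hmq : m • q ∈ B := ⟨⟨m, hm⟩, rfl⟩
    rw [hBeq, h] at hmq
    simpa using hmq
  · right
    rw [h, hsum] at hBcard
    rw [hBcard] at hidx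
    have : M.index = 1 := by
      have := Nat.eq_of_mul_eq_mul_left hn0 (hidx.trans (mul_one n).symm)
      exact this
    exact Subgroup.index_eq_one.mp this

end abstract

end Cfsg.Agent.Lib.Helper4.G24E
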