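import Mathlib

set_option autoImplicit false

/-! # Transport of the "extremely primitive on the cosets of a copy of `J`" property -/

namespace Cfsg.Agent.Lib.Helper4.G24E

/-- `G` has a maximal subgroup isomorphic to `J` all of whose two-point stabilizers (in the action
on its cosets) are maximal in it -/
def ExtPrim (G : Type*) [Group G] (J : Type*) [Group J] : Prop :=
  ∃ H : Subgroup G, IsCoatom H ∧ Nonempty (↥H ≃* J) ∧
    ∀ x : G, x ∉ H → IsCoatom ((H ⊓ H.map (MulAut.conj x).toMonoidHom).subgroupOf H)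

theorem isCoatom_map_equiv {G G' : Type*} [Group G] [Group G'] (e : G ≃* G') (H : Subgroup G) :
    IsCoatom (H.map (e : G →* G')) ↔ IsCoatom H :=
  (e.mapSubgroup).isCoatom_iff H

theorem map_subgroupOf_subgroupMap {G G' : Type*} [Group G] [Group G'] (e : G ≃* G')
    (H A : Subgroup G) :
    (A.subgroupOf H).map ((e.subgroupMap H : ↥H ≃* ↥(H.map (e : G →* G'))) : ↥H →* ↥(H.map (e : G →* G'))) =
      (A.map (e : G →* G')).subgroupOf (H.map (e : G →* G')) := by
  ext y
  rw [Subgroup.mem_map, Subgroup.mem_subgroupOf, Subgroup.mem_map]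
  constructor
  · rintro ⟨a, ha, rfl⟩
    exact ⟨(a : G), Subgroup.mem_subgroupOf.mp ha, rfl⟩
  · rintro ⟨a, ha, hay⟩
    obtain ⟨b, hb, hby⟩ := Subgroup.mem_map.mp y.2
    have hab : a = b := e.injective (hay.trans hby.symm)
    refine ⟨⟨a, hab ▸ hb⟩, Subgroup.mem_subgroupOf.mpr ha, ?_⟩
    apply Subtype.ext
    exact hay

theorem extPrim_of_equiv {G G' J : Type*} [Group G] [Group G'] [Group J] (e : G ≃* G') :
    ExtPrim G J → ExtPrim G' J := by
  rintro ⟨H, hH, ⟨f⟩, hx⟩
  refine ⟨H.map (e : G →* G'), (isCoatom_map_equiv e H).mpr hH,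
    ⟨(e.subgroupMap H).symm.trans f⟩, ?_⟩
  intro x' hx'
  set x : G := e.symm x' with hxdef
  have hxH : x ∉ H := by
    intro h
    apply hx'
    exact Subgroup.mem_map.mpr ⟨x, h, by rw [hxdef]; exact e.apply_symm_apply x'⟩
  have hconj : (H.map (e : G →* G')).map (MulAut.conj x').toMonoidHom =
      (H.map (MulAut.conj x).toMonoidHom).map (e : G →* G') := by
    rw [Subgroup.map_map, Subgroup.map_map]
    congr 1
    ext g
    show x' * e g * x'⁻¹ = e (x * g * x⁻¹)
    rw [map_mul, map_mul, map_inv, hxdef]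
    simp
  have hinf : H.map (e : G →* G') ⊓ (H.map (e : G →* G')).map (MulAut.conj x').toMonoidHom =
      (H ⊓ H.map (MulAut.conj x).toMonoidHom).map (e : G →* G') := by
    rw [hconj]
    exact (Subgroup.map_inf _ _ _ e.injective).symm
  rw [hinf, ← map_subgroupOf_subgroupMap]
  exact (isCoatom_map_equiv (e.subgroupMap H) _).mpr (hx x hxH)

theorem extPrim_congr {G J J' : Type*} [Group G] [Group J] [Group J'] (f : J ≃* J') :
    ExtPrim G J → ExtPrim G J' := by
  rintro ⟨H, hH, ⟨g⟩, hx⟩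
  exact ⟨H, hH, ⟨g.trans f⟩, hx⟩

end Cfsg.Agent.Lib.Helper4.G24E
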