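import Mathlib
import Cfsg.Agent.Lib.Helper6.TC8

set_option autoImplicit false

/-! # Tree certificates for orbits of a subgroup given by words, and counting lemmas -/

namespace Cfsg.Agent.Lib.Helper4.G24E

open MulAction Cfsg.Agent.Lib.Helper6.TC

/-- every point with the label `c` is in the orbit of the root `p0` under `K`, given a tree -/
theorem mem_orbit_of_tree {A : Type*} [Group A] {N : ℕ} [MulAction A (Fin N)] (K : Subgroup A)
    (px : ℕ → ℕ → ℕ) (ws : List (List ℕ))
    (helt : ∀ w ∈ ws, ∃ k ∈ K, ∀ p : Fin N, (k⁻¹ • p).val = wapp px w p.val)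
    (lab rnk : ℕ → ℕ) (c : ℕ) (p0 : Fin N)
    (htree : ∀ p < N, lab p = c → p ≠ p0.val →
      ∃ w ∈ ws, lab (wapp px w p) = c ∧ rnk (wapp px w p) < rnk p) :
    ∀ p : Fin N, lab p.val = c → p ∈ orbit ↥K p0 := by
  suffices h : ∀ r, ∀ p : Fin N, rnk p.val = r → lab p.val = c → p ∈ orbit ↥K p0 from
    fun p hp => h _ p rfl hp
  intro r
  induction r using Nat.strong_induction_on with
  | _ r ih =>
    intro p hr hl
    by_cases hp : p = p0
    · rw [hp]
      exact mem_orbit_self p0
    · have hne : p.val ≠ p0.val := fun h => hp (Fin.ext h)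
      obtain ⟨w, hw, hl', hr'⟩ := htree p.val p.isLt hl hne
      obtain ⟨k, hk, hkp⟩ := helt w hw
      have h1 := hkp p
      have h2 : k⁻¹ • p ∈ orbit ↥K p0 := by
        apply ih (rnk (k⁻¹ • p).val) _ (k⁻¹ • p) rfl
        · rw [h1]; exact hl'
        · rw [h1, ← hr]; exact hr'
      obtain ⟨m, hm⟩ := h2
      refine ⟨⟨k, hk⟩ * m, ?_⟩
      show (⟨k, hk⟩ * m : ↥K) • p0 = p
      rw [mul_smul]
      have hm' : m • p0 = k⁻¹ • p := hm
      rw [hm']
      show k • k⁻¹ • p = p
      rw [smul_inv_smul]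

/-- counting the points of `Fin N` satisfying a Boolean predicate -/
theorem ncard_fin_setOf (N : ℕ) (f : ℕ → Bool) :
    {p : Fin N | f p.val = true}.ncard = ((List.range N).filter f).length := by
  classical
  have h1 : {p : Fin N | f p.val = true}.ncard =
      (Finset.univ.filter (fun p : Fin N => f p.val = true)).card := by
    rw [← Set.ncard_coe_finset]
    congr 1
    ext p
    simp
  rw [h1]
  have h2 : (Finset.univ.filter (fun p : Fin N => f p.val = true)).card =
      ((Finset.range N).filter (fun i => f i = true)).card := by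
    rw [← Finset.card_map Fin.valEmbedding]
    congr 1
    ext i
    simp only [Finset.mem_map, Finset.mem_filter, Finset.mem_univ, true_and, Fin.valEmbedding_apply,
      Finset.mem_range]
    constructor
    · rintro ⟨p, hp, rfl⟩
      exact ⟨p.isLt, hp⟩
    · rintro ⟨hi, hf⟩
      exact ⟨⟨i, hi⟩, hf, rfl⟩
  rw [h2]
  rw [Finset.card_def]
  show Multiset.card (Multiset.filter _ (Multiset.range N)) = _
  rw [Multiset.range, Multiset.filter_coe, Multiset.coe_card]
  congr 1
  apply List.filter_congr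
  intro x _
  simp

/-- the tree check at a point: labels `0` and `1` are not checked -/
def chkTree (px : ℕ → ℕ → ℕ) (ws : List (List ℕ)) (lab mv rnk : ℕ → ℕ) (roots : List ℕ)
    (p : ℕ) : Bool :=
  decide (lab p < 2) || (roots.getD (lab p) 0 == p) ||
    (decide (mv p < ws.length) && (lab (wapp px (ws.getD (mv p) []) p) == lab p) &&
      decide (rnk (wapp px (ws.getD (mv p) []) p) < rnk p))

theorem chkTree_spec' {px : ℕ → ℕ → ℕ} {ws : List (List ℕ)} {lab mv rnk : ℕ → ℕ} {roots : List ℕ}
    {N : ℕ} (h : (List.range N).all (chkTree px ws lab mv rnk roots) = true)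
    (c : ℕ) (hc : 2 ≤ c) :
    ∀ p < N, lab p = c → p ≠ roots.getD c 0 →
      ∃ w ∈ ws, lab (wapp px w p) = c ∧ rnk (wapp px w p) < rnk p := by
  intro p hp hl hne
  have h1 := List.all_eq_true.mp h p (List.mem_range.mpr hp)
  unfold chkTree at h1
  simp only [Bool.or_eq_true, Bool.and_eq_true, decide_eq_true_eq, beq_iff_eq] at h1
  rcases h1 with (h1 | h1) | ⟨⟨h1, h2⟩, h3⟩
  · omega
  · rw [hl] at h1
    exact absurd h1.symm hne
  · refine ⟨ws.getD (mv p) [], ?_, h2.trans hl, h3⟩
    rw [List.getD_eq_getElem _ _ h1]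
    exact List.getElem_mem h1

end Cfsg.Agent.Lib.Helper4.G24E
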