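import Cfsg.Agent.Lib.Helper4.G24E.D1
import Cfsg.Agent.Lib.Helper4.G24E.E3
import Cfsg.Agent.Lib.Helper6.TCD.G24a.Par

set_option autoImplicit false
set_option maxRecDepth 1000000

/-! # Kernel checks of the suborbit trees -/

namespace Cfsg.Agent.Lib.Helper4.G24E

open Cfsg.Agent.Lib.Helper6.TC Cfsg.Agent.Lib.Helper6.TCD.G24a

theorem chkT1 : (List.range 416).all (chkTree px ws1 lab1 mv1 rnk1 roots1) = true := by
  decide +kernel

theorem chkT2 : (List.range 416).all (chkTree px ws2 lab2 mv2 rnk2 roots2) = true := by
  decide +kernel

theorem chkFix1 : ws1.all (fun w => w.all (fun c => decide (c < 6)) && wapp px w 0 == 0 &&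
    wapp px w q1 == q1) = true := by
  decide +kernel

theorem chkFix2 : ws2.all (fun w => w.all (fun c => decide (c < 6)) && wapp px w 0 == 0 &&
    wapp px w q2 == q2) = true := by
  decide +kernel

theorem chkCov1 : (List.range 416).all (fun p => !(lab p == 2) || (p == q1) ||
    (decide (2 ≤ lab1 p) && decide (lab1 p < 4))) = true := by
  decide +kernel

theorem chkCov2 : (List.range 416).all (fun p => !(lab p == 1) || (p == q2) ||
    (decide (2 ≤ lab2 p) && decide (lab2 p < 7))) = true := by
  decide +kernel

theorem chkQ1 : lab1 q1 = 1 ∧ lab q1 = 2 := by decide +kernel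

theorem chkQ2 : lab2 q2 = 1 ∧ lab q2 = 1 := by decide +kernel

theorem chkCnt1 : ((List.range 416).filter (fun p => lab1 p == 2)).length = 36 ∧
    ((List.range 416).filter (fun p => lab1 p == 3)).length = 63 := by
  decide +kernel

theorem chkCnt2 : ((List.range 416).filter (fun p => lab2 p == 2)).length = 10 ∧
    ((List.range 416).filter (fun p => lab2 p == 3)).length = 32 ∧
    ((List.range 416).filter (fun p => lab2 p == 4)).length = 32 ∧
    ((List.range 416).filter (fun p => lab2 p == 5)).length = 80 ∧
    ((List.range 416).filter (fun p => lab2 p == 6)).length = 160 := by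
  decide +kernel

theorem chkCntH : ((List.range 416).filter (fun p => lab p == 1)).length = 315 ∧
    ((List.range 416).filter (fun p => lab p == 2)).length = 100 := by
  decide +kernel

theorem chkCovH : (List.range 416).all (fun p => (p == 0) || (lab p == 1) || (lab p == 2)) = true := by
  decide +kernel

theorem roots1_lt : ∀ c < 4, roots1.getD c 0 < 416 := by decide

theorem roots2_lt : ∀ c < 7, roots2.getD c 0 < 416 := by decide

end Cfsg.Agent.Lib.Helper4.G24E
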