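import Cfsg.Agent.Lib.Helper4.G24E.E1
import Cfsg.Agent.Lib.Helper4.G24E.E2
import Cfsg.Agent.Lib.Helper4.G24E.E4
import Cfsg.Agent.Lib.Helper6.Spor.G24Simple

set_option autoImplicit false
set_option maxRecDepth 100000

/-! # The two-point stabilizers of G2(4) on 416 points are maximal in the point stabilizer -/

namespace Cfsg.Agent.Lib.Helper4.G24E

open MulAction Cfsg.Agent.Lib.Helper6 Cfsg.Agent.Lib.Helper6.TC Cfsg.Agent.Lib.Helper6.TCD
open Cfsg.Agent.Lib.Helper6.TCP.G24
open Cfsg.Agent.Lib.Helper6.TCD.G24a (px lab rnk)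
open Cfsg.Agent.Lib.Helper6.G24Idx (S subw hsw hsw' hlab htreeH)

/-- the element of a word -/
noncomputable def elt (w : List ℕ) : G := PresentedGroup.mk Rels (wordElt gc w)

/-- the base point -/
abbrev P0 : Fin 416 := ⟨0, by decide⟩
/-- the representative of the suborbit of length 100 -/
abbrev Q1 : Fin 416 := ⟨q1, by decide⟩
/-- the representative of the suborbit of length 315 -/
abbrev Q2 : Fin 416 := ⟨q2, by decide⟩

instance finiteG : Finite G := G24UB.card_le.1

section model

variable [MulAction G (Fin 416)]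
  (hw : ∀ w, (∀ c ∈ w, c < 6) → ∀ p : Fin 416, ((elt w)⁻¹ • p).val = wapp px w p.val)
  (hfixH : ∀ h ∈ subH Rels S, h • P0 = P0)
  (htrans : ∀ p : Fin 416, ∃ g : G, g • P0 = p)
  (hidx : (subH Rels S).index = 416)

include htrans in
theorem index_stab : (stabilizer G P0).index = 416 := by
  rw [index_stabilizer]
  have : orbit G P0 = Set.univ := by
    ext p
    simp only [Set.mem_univ, iff_true]
    obtain ⟨g, hg⟩ := htrans p
    exact ⟨g, hg⟩
  rw [this, Set.ncard_univ, Nat.card_eq_fintype_card, Fintype.card_fin]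

include hfixH htrans hidx in
theorem stab_eq : subH Rels S = stabilizer G P0 := by
  have hle : subH Rels S ≤ stabilizer G P0 := fun h hh => hfixH h hh
  apply le_antisymm hle
  have h1 := Subgroup.relIndex_mul_index hle
  rw [hidx, index_stab htrans] at h1
  have h2 : (subH Rels S).relIndex (stabilizer G P0) = 1 := by omega
  exact Subgroup.relIndex_eq_one.mp h2

include hw in
theorem elt_mem_stab (w : List ℕ) (hw6 : ∀ c ∈ w, c < 6) (p : Fin 416)
    (hfix : wapp px w p.val = p.val) : elt w ∈ stabilizer G p := by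
  rw [mem_stabilizer_iff]
  have h1 : (elt w)⁻¹ • p = p := Fin.ext ((hw w hw6 p).trans hfix)
  rw [inv_smul_eq_iff] at h1
  exact h1.symm

include hw in
theorem lab_smul : ∀ h ∈ subH Rels S, ∀ p : Fin 416, lab (h • p).val = lab p.val := by
  intro h hh
  obtain ⟨x, hx, rfl⟩ := Subgroup.mem_map.mp hh
  clear hh
  induction hx using Subgroup.closure_induction with
  | mem s hs =>
    obtain ⟨w, hwm, rfl⟩ := hsw s hs
    intro p
    have h1 := hw w (hsw' w hwm).1 (elt w • p)
    rw [inv_smul_smul] at h1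
    have h2 := hlab w hwm _ (elt w • p).isLt
    rw [← h1] at h2
    exact h2.symm
  | one => intro p; rw [map_one, one_smul]
  | mul x y _ _ hx hy =>
    intro p
    rw [map_mul, mul_smul, hx, hy]
  | inv x _ hx =>
    intro p
    rw [map_inv]
    have := hx ((PresentedGroup.mk Rels x)⁻¹ • p)
    rw [smul_inv_smul] at this
    exact this.symm

include hw hfixH htrans hidx in
/-- the words of the generators of the point stabilizer -/
theorem helt0 : ∀ w ∈ subw, ∃ k ∈ stabilizer G P0, ∀ p : Fin 416, (k⁻¹ • p).val = wapp px w p.val := by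
  intro w hwm
  refine ⟨elt w, ?_, hw w (hsw' w hwm).1⟩
  rw [← stab_eq hfixH htrans hidx]
  exact Subgroup.mem_map_of_mem _ (Subgroup.subset_closure (hsw' w hwm).2)

include hw hfixH htrans hidx in
/-- the orbits of the point stabilizer -/
theorem orbit0 (p0 : Fin 416) (hp0 : p0.val = 0 ∨ p0.val = 1 ∨ p0.val = 38) (p : Fin 416) :
    p ∈ orbit ↥(stabilizer G P0) p0 ↔ lab p.val = lab p0.val := by
  constructor
  · rintro ⟨h, rfl⟩
    have hh : (h : G) ∈ subH Rels S := by
      rw [stab_eq hfixH htrans hidx]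
      exact h.2
    exact lab_smul hw _ hh p0
  · intro hl
    refine mem_orbit_of_tree (stabilizer G P0) px subw (helt0 hw hfixH htrans hidx) lab rnk
      (lab p0.val) p0 ?_ p hl
    intro p hp hl hne
    obtain ⟨w, hwm, hr⟩ := htreeH p0.val hp0 p hp hl hne
    exact ⟨w, hwm, (hlab w hwm p hp).trans hl, hr⟩

/-! ## The two-point stabilizers -/

include hw in
/-- words fixing `0` and `q` give elements of the two-point stabilizer -/
theorem helt_two (q : Fin 416) (ws : List (List ℕ))
    (hfix : ws.all (fun w => w.all (fun c => decide (c < 6)) && wapp px w 0 == 0 &&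
      wapp px w q.val == q.val) = true) :
    ∀ w ∈ ws, ∃ k ∈ stabilizer ↥(stabilizer G P0) q,
      ∀ p : Fin 416, (k⁻¹ • p).val = wapp px w p.val := by
  intro w hwm
  have h1 := List.all_eq_true.mp hfix w hwm
  simp only [Bool.and_eq_true, List.all_eq_true, decide_eq_true_eq, beq_iff_eq] at h1
  obtain ⟨⟨h6, h0⟩, hq⟩ := h1
  have hm0 : elt w ∈ stabilizer G P0 := elt_mem_stab hw w h6 P0 h0
  have hmq : elt w ∈ stabilizer G q := elt_mem_stab hw w h6 q hq
  refine ⟨⟨elt w, hm0⟩, ?_, ?_⟩
  · rw [mem_stabilizer_iff]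
    exact mem_stabilizer_iff.mp hmq
  · intro p
    exact hw w h6 p

end model

end Cfsg.Agent.Lib.Helper4.G24E
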