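import Cfsg.Agent.Lib.Helper4.G24E.E5

set_option autoImplicit false
set_option maxRecDepth 100000

/-! # Maximality of the two-point stabilizers from the checks -/

namespace Cfsg.Agent.Lib.Helper4.G24E

open MulAction Cfsg.Agent.Lib.Helper6 Cfsg.Agent.Lib.Helper6.TC Cfsg.Agent.Lib.Helper6.TCD
open Cfsg.Agent.Lib.Helper6.TCP.G24
open Cfsg.Agent.Lib.Helper6.TCD.G24a (px lab rnk)
open Cfsg.Agent.Lib.Helper6.G24Idx (S subw hsw hsw' hlab htreeH)

section model

variable [MulAction G (Fin 416)]
  (hw : ∀ w, (∀ c ∈ w, c < 6) → ∀ p : Fin 416, ((elt w)⁻¹ • p).val = wapp px w p.val)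
  (hfixH : ∀ h ∈ subH Rels S, h • P0 = P0)
  (htrans : ∀ p : Fin 416, ∃ g : G, g • P0 = p)
  (hidx : (subH Rels S).index = 416)

include hw hfixH htrans hidx in
theorem ncard_orbit0 (q : Fin 416) (hq0 : q.val = 0 ∨ q.val = 1 ∨ q.val = 38) (n : ℕ)
    (hn : ((List.range 416).filter (fun p => lab p == lab q.val)).length = n) :
    (orbit ↥(stabilizer G P0) q).ncard = n := by
  rw [← hn, ← ncard_fin_setOf]
  congr 1
  ext p
  rw [orbit0 hw hfixH htrans hidx q hq0 p]
  simp

include hw hfixH htrans hidx in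
theorem max_of_checks (q : Fin 416) (hq0 : q.val = 0 ∨ q.val = 1 ∨ q.val = 38)
    (ws : List (List ℕ)) (labq mvq rnkq : ℕ → ℕ) (roots : List ℕ) (r : ℕ) (s : Fin r → ℕ) (n : ℕ)
    (hfix : ws.all (fun w => w.all (fun c => decide (c < 6)) && wapp px w 0 == 0 &&
      wapp px w q.val == q.val) = true)
    (hT : (List.range 416).all (chkTree px ws labq mvq rnkq roots) = true)
    (hroots : ∀ c < r + 2, roots.getD c 0 < 416)
    (hcov : (List.range 416).all (fun p => !(lab p == lab q.val) || (p == q.val) ||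
      (decide (2 ≤ labq p) && decide (labq p < r + 2))) = true)
    (hlq : labq q.val = 1)
    (hcnt : ∀ j : Fin r, ((List.range 416).filter (fun p => labq p == j.val + 2)).length = s j)
    (hn : ((List.range 416).filter (fun p => lab p == lab q.val)).length = n)
    (hdvd : ∀ T : Finset (Fin r), (1 + ∑ j ∈ T, s j) ∣ n → T = ∅ ∨ T = Finset.univ)
    (hsum : 1 + ∑ j, s j = n) :
    ∀ M : Subgroup ↥(stabilizer G P0), stabilizer ↥(stabilizer G P0) q ≤ M →
      M = stabilizer ↥(stabilizer G P0) q ∨ M = ⊤ := by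
  refine stabilizer_max_of_cert q (fun j : Fin r => {p : Fin 416 | labq p.val = j.val + 2}) s n
    ?_ (ncard_orbit0 hw hfixH htrans hidx q hq0 n hn) ?_ ?_ ?_ ?_ hdvd hsum
  · -- sizes
    intro j
    rw [← hcnt j, ← ncard_fin_setOf]
    congr 1
    ext p
    simp
  · -- covering
    intro p hp
    rw [orbit0 hw hfixH htrans hidx q hq0 p] at hp
    have h1 := List.all_eq_true.mp hcov p.val (List.mem_range.mpr p.isLt)
    simp only [Bool.or_eq_true, Bool.not_eq_true', beq_eq_false_iff_ne, ne_eq, beq_iff_eq,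
      Bool.and_eq_true, decide_eq_true_eq] at h1
    rcases h1 with (h1 | h1) | ⟨h1, h2⟩
    · exact absurd hp h1
    · exact Or.inl (Fin.ext h1)
    · refine Or.inr (Set.mem_iUnion.mpr ⟨⟨labq p.val - 2, by omega⟩, ?_⟩)
      show labq p.val = labq p.val - 2 + 2
      omega
  · -- the point is in no class
    intro j hj
    have : labq q.val = j.val + 2 := hj
    omega
  · -- disjointness
    intro i j hij
    rw [Set.disjoint_left]
    intro p hi hj
    have h1 : labq p.val = i.val + 2 := hi
    have h2 : labq p.val = j.val + 2 := hj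
    exact hij (Fin.ext (by omega))
  · -- connectedness
    intro j x hx y hy
    have hroot : roots.getD (j.val + 2) 0 < 416 := hroots _ (by omega)
    have key := mem_orbit_of_tree (stabilizer ↥(stabilizer G P0) q) px ws
      (helt_two hw q ws hfix) labq rnkq (j.val + 2) ⟨roots.getD (j.val + 2) 0, hroot⟩
      (chkTree_spec' hT (j.val + 2) (by omega))
    have h1 := key x hx
    have h2 := key y hy
    rw [← orbit_eq_iff] at h1 h2
    rw [← orbit_eq_iff, h1, h2]

include hw hfixH htrans hidx in
theorem coatom_of_checks (q : Fin 416) (hq0 : q.val = 0 ∨ q.val = 1 ∨ q.val = 38)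
    (ws : List (List ℕ)) (labq mvq rnkq : ℕ → ℕ) (roots : List ℕ) (r : ℕ) (s : Fin r → ℕ) (n : ℕ)
    (hfix : ws.all (fun w => w.all (fun c => decide (c < 6)) && wapp px w 0 == 0 &&
      wapp px w q.val == q.val) = true)
    (hT : (List.range 416).all (chkTree px ws labq mvq rnkq roots) = true)
    (hroots : ∀ c < r + 2, roots.getD c 0 < 416)
    (hcov : (List.range 416).all (fun p => !(lab p == lab q.val) || (p == q.val) ||
      (decide (2 ≤ labq p) && decide (labq p < r + 2))) = true)
    (hlq : labq q.val = 1)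
    (hcnt : ∀ j : Fin r, ((List.range 416).filter (fun p => labq p == j.val + 2)).length = s j)
    (hn : ((List.range 416).filter (fun p => lab p == lab q.val)).length = n)
    (hdvd : ∀ T : Finset (Fin r), (1 + ∑ j ∈ T, s j) ∣ n → T = ∅ ∨ T = Finset.univ)
    (hsum : 1 + ∑ j, s j = n) (hn1 : 1 < n) :
    IsCoatom (stabilizer ↥(stabilizer G P0) q) := by
  refine ⟨?_, fun M hlt => ?_⟩
  · intro htop
    have h1 := index_stabilizer ↥(stabilizer G P0) q
    rw [ncard_orbit0 hw hfixH htrans hidx q hq0 n hn, htop, Subgroup.index_top] at h1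
    omega
  · exact (max_of_checks hw hfixH htrans hidx q hq0 ws labq mvq rnkq roots r s n hfix hT hroots
      hcov hlq hcnt hn hdvd hsum M hlt.le).resolve_left hlt.ne'

end model

end Cfsg.Agent.Lib.Helper4.G24E
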