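import Cfsg.Agent.Lib.Helper4.G24E.E6
import Cfsg.Agent.Lib.Helper6.Simp7
import Cfsg.Agent.S0423

set_option autoImplicit false
set_option maxRecDepth 100000

/-! # The presented group G2(4) acts extremely primitively on the cosets of J2 -/

namespace Cfsg.Agent.Lib.Helper4.G24E

open MulAction Cfsg.Agent.Lib.Helper6 Cfsg.Agent.Lib.Helper6.TC Cfsg.Agent.Lib.Helper6.TCD
open Cfsg.Agent.Lib.Helper6.TCP.G24
open Cfsg.Agent.Lib.Helper6.TCD.G24a (px lab rnk)
open Cfsg.Agent.Lib.Helper6.G24Idx (S subw hsw hsw' hlab htreeH)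

theorem hdvd1 : ∀ T : Finset (Fin 2), (1 + ∑ j ∈ T, (![36, 63] : Fin 2 → ℕ) j) ∣ 100 →
    T = ∅ ∨ T = Finset.univ := by
  decide

theorem hdvd2 : ∀ T : Finset (Fin 5), (1 + ∑ j ∈ T, (![10, 32, 32, 80, 160] : Fin 5 → ℕ) j) ∣ 315 →
    T = ∅ ∨ T = Finset.univ := by
  decide

section model

variable [MulAction G (Fin 416)]
  (hw : ∀ w, (∀ c ∈ w, c < 6) → ∀ p : Fin 416, ((elt w)⁻¹ • p).val = wapp px w p.val)
  (hfixH : ∀ h ∈ subH Rels S, h • P0 = P0)
  (htrans : ∀ p : Fin 416, ∃ g : G, g • P0 = p)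
  (hidx : (subH Rels S).index = 416)

include hw hfixH htrans hidx in
theorem coatom1 : IsCoatom (stabilizer ↥(stabilizer G P0) Q1) := by
  refine coatom_of_checks hw hfixH htrans hidx Q1 (Or.inr (Or.inr rfl)) ws1 lab1 mv1 rnk1 roots1 2
    ![36, 63] 100 chkFix1 chkT1 roots1_lt ?_ chkQ1.1 ?_ ?_ hdvd1 (by decide) (by norm_num)
  · rw [show lab Q1.val = 2 from chkQ1.2]
    exact chkCov1
  · intro j
    fin_cases j
    · exact chkCnt1.1
    · exact chkCnt1.2
  · rw [show lab Q1.val = 2 from chkQ1.2]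
    exact chkCntH.2

include hw hfixH htrans hidx in
theorem coatom2 : IsCoatom (stabilizer ↥(stabilizer G P0) Q2) := by
  refine coatom_of_checks hw hfixH htrans hidx Q2 (Or.inr (Or.inl rfl)) ws2 lab2 mv2 rnk2 roots2 5
    ![10, 32, 32, 80, 160] 315 chkFix2 chkT2 roots2_lt ?_ chkQ2.1 ?_ ?_ hdvd2 (by decide)
    (by norm_num)
  · rw [show lab Q2.val = 1 from chkQ2.2]
    exact chkCov2
  · intro j
    fin_cases j
    · exact chkCnt2.1
    · exact chkCnt2.2.1
    · exact chkCnt2.2.2.1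
    · exact chkCnt2.2.2.2.1
    · exact chkCnt2.2.2.2.2
  · rw [show lab Q2.val = 1 from chkQ2.2]
    exact chkCntH.1

include hw hfixH htrans hidx in
/-- every two-point stabilizer is maximal in the point stabilizer -/
theorem coatom_two (q : Fin 416) (hq : q ≠ P0) : IsCoatom (stabilizer ↥(stabilizer G P0) q) := by
  have h1 := List.all_eq_true.mp chkCovH q.val (List.mem_range.mpr q.isLt)
  simp only [Bool.or_eq_true, beq_iff_eq] at h1
  have key : ∀ q0 : Fin 416, IsCoatom (stabilizer ↥(stabilizer G P0) q0) →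
      q ∈ orbit ↥(stabilizer G P0) q0 → IsCoatom (stabilizer ↥(stabilizer G P0) q) := by
    rintro q0 hq0 ⟨h, rfl⟩
    have e := stabilizer_smul_eq_stabilizer_map_conj h q0
    have e' : stabilizer ↥(stabilizer G P0) (h • q0) =
        (stabilizer ↥(stabilizer G P0) q0).map
          ((MulAut.conj h : ↥(stabilizer G P0) ≃* ↥(stabilizer G P0)) :
            ↥(stabilizer G P0) →* ↥(stabilizer G P0)) := e
    show IsCoatom (stabilizer ↥(stabilizer G P0) (h • q0))
    rw [e']
    exact (isCoatom_map_equiv _ _).mpr hq0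
  rcases h1 with (h1 | h1) | h1
  · exact absurd (Fin.ext h1) hq
  · refine key Q2 (coatom2 hw hfixH htrans hidx) ?_
    rw [orbit0 hw hfixH htrans hidx Q2 (Or.inr (Or.inl rfl)) q, h1]
    exact chkQ2.2.symm
  · refine key Q1 (coatom1 hw hfixH htrans hidx) ?_
    rw [orbit0 hw hfixH htrans hidx Q1 (Or.inr (Or.inr rfl)) q, h1]
    exact chkQ1.2.symm

include hw hfixH htrans hidx in
theorem coatom_conj (x : G) (hx : x ∉ stabilizer G P0) :
    IsCoatom ((stabilizer G P0 ⊓ (stabilizer G P0).map (MulAut.conj x).toMonoidHom).subgroupOf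
      (stabilizer G P0)) := by
  rw [← stabilizer_smul_eq_stabilizer_map_conj x P0, Subgroup.inf_subgroupOf_left,
    ← stabilizer_subgroup_eq]
  exact coatom_two hw hfixH htrans hidx (x • P0) (fun h => hx (mem_stabilizer_iff.mpr h))

end model

end Cfsg.Agent.Lib.Helper4.G24E
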