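import Cfsg.Agent.Lib.Helper4.G24E.E7
import Cfsg.Agent.Lib.Helper4.J2.H10
import Cfsg.Agent.Lib.Helper6.Spor.G24Mat
import Cfsg.Agent.Lib.Helper3.ChevRingEquiv

set_option autoImplicit false
set_option maxRecDepth 100000

/-! # G2(4) acts extremely primitively on the cosets of a maximal subgroup J2 -/

namespace Cfsg.Agent.Lib.Helper4.G24E

open MulAction Cfsg.Agent.Lib.Helper6 Cfsg.Agent.Lib.Helper6.TC Cfsg.Agent.Lib.Helper6.TCD
open Cfsg.Agent.Lib.Helper6.TCP.G24
open Cfsg.Agent.Lib.Helper6.TCD.G24a (px lab rnk)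
open Cfsg.Agent.Lib.Helper6.G24Idx (S subw hsw hsw' hlab htreeH)

/-! ## The subgroup generated by the first five generators is the presented group J2 -/

/-- the words of the columns -/
def cw (i : ℕ) : List ℕ := [i]

theorem flatMap_cw (b : List ℕ) : b.flatMap cw = b := by
  induction b with
  | nil => rfl
  | cons c b ih =>
    rw [List.flatMap_cons, ih]
    rfl

theorem hmemJ : ∀ b ∈ TCP.J2.base, b ∈ TCP.G24.base := by
  decide +kernel

theorem hrelJ : ∀ b ∈ TCP.J2.base,
    PresentedGroup.mk Rels (wordElt gc (b.flatMap cw)) = 1 := by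
  intro b hb
  rw [flatMap_cw]
  exact TCP.G24.hbase b (hmemJ b hb)

/-- the homomorphism from the presented group `J2` to the presented group `G24` -/
noncomputable def psiJ : TCP.J2.G →* G := wpHomW cw TCP.J2.hbl hrelJ

theorem psiJ_of (i : Fin 5) : psiJ (PresentedGroup.of i) =
    PresentedGroup.mk Rels (wordElt gc [i.val]) := wpHomW_of cw _ _ i

theorem psiJ_range : psiJ.range = subH Rels S := by
  rw [MonoidHom.range_eq_map, ← PresentedGroup.closure_range_of, MonoidHom.map_closure]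
  show _ = (Subgroup.closure S).map (PresentedGroup.mk Rels)
  rw [MonoidHom.map_closure]
  congr 1
  ext x
  constructor
  · rintro ⟨_, ⟨i, rfl⟩, rfl⟩
    have h : psiJ (PresentedGroup.of i) = PresentedGroup.mk Rels (wordElt gc [i.val]) := psiJ_of i
    rw [h]
    refine ⟨wordElt gc [i.val], (hsw' [i.val] ?_).2, rfl⟩
    have hi := i.isLt
    simp only [subw, List.mem_cons, List.mem_nil_iff, or_false, List.cons.injEq, and_true]
    omega
  · rintro ⟨s, hs, rfl⟩
    obtain ⟨w, hw, rfl⟩ := hsw s hs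
    simp only [subw, List.mem_cons, List.mem_nil_iff, or_false] at hw
    rcases hw with rfl | rfl | rfl | rfl | rfl
    · exact ⟨PresentedGroup.of ⟨0, by decide⟩, ⟨⟨0, by decide⟩, rfl⟩, psiJ_of ⟨0, by decide⟩⟩
    · exact ⟨PresentedGroup.of ⟨1, by decide⟩, ⟨⟨1, by decide⟩, rfl⟩, psiJ_of ⟨1, by decide⟩⟩
    · exact ⟨PresentedGroup.of ⟨2, by decide⟩, ⟨⟨2, by decide⟩, rfl⟩, psiJ_of ⟨2, by decide⟩⟩
    · exact ⟨PresentedGroup.of ⟨3, by decide⟩, ⟨⟨3, by decide⟩, rfl⟩, psiJ_of ⟨3, by decide⟩⟩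
    · exact ⟨PresentedGroup.of ⟨4, by decide⟩, ⟨⟨4, by decide⟩, rfl⟩, psiJ_of ⟨4, by decide⟩⟩

theorem hmove0 : wapp px [0] 2 ≠ 2 := by
  decide +kernel

/-- the main theorem for the presented group -/
theorem extPrim_G24 : ExtPrim G TCP.J2.G := by
  have hrep : ∃ φ : G →* Equiv.Perm (Fin 416),
      (∀ w, (∀ c ∈ w, c < 6) → ∀ p : Fin 416,
        ((φ (PresentedGroup.mk Rels (wordElt gc w)))⁻¹ p).val = wapp px w p.val) ∧
      (∀ h ∈ subH Rels S, φ h P0 = P0) ∧
      (∀ p : Fin 416, ∃ g, φ g P0 = p) :=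
    perm_rep (rels := Rels) (S := S)
      G24Idx.hP hC (rel_cover G24Idx.hP G24Idx.hfix) G24Idx.hsubP G24Idx.htree
  obtain ⟨φ, hw0, hfixH0, htrans0⟩ := hrep
  have hidx : (subH Rels S).index = 416 :=
    (index_eq (N := 416) (by decide) hfixH0 htrans0 G24Idx.idx_le.1 G24Idx.idx_le.2).1
  letI : MulAction G (Fin 416) := MulAction.compHom (Fin 416) φ
  have hw : ∀ w, (∀ c ∈ w, c < 6) → ∀ p : Fin 416, ((elt w)⁻¹ • p).val = wapp px w p.val := by
    intro w hw6 p
    have := hw0 w hw6 p
    rw [← map_inv] at this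
    exact this
  have hfixH : ∀ h ∈ subH Rels S, h • P0 = P0 := hfixH0
  have htrans : ∀ p : Fin 416, ∃ g : G, g • P0 = p := htrans0
  have hst := stab_eq hfixH htrans hidx
  -- the homomorphism from J2 is injective
  have hinj : Function.Injective psiJ := by
    refine Simp.injective_of_simple _ Cfsg.Agent.S0423.simple.1
      (x := PresentedGroup.mk (wrels 5 TCP.J2.base) (FreeGroup.of ⟨0, by decide⟩)) ?_
    have h0 : psiJ (PresentedGroup.mk (wrels 5 TCP.J2.base) (FreeGroup.of ⟨0, by decide⟩)) =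
        elt [0] := psiJ_of ⟨0, by decide⟩
    rw [h0]
    intro h
    have h1 := hw [0] (by decide) ⟨2, by decide⟩
    rw [h, inv_one, one_smul] at h1
    exact hmove0 h1.symm
  refine ⟨stabilizer G P0, ?_, ⟨?_⟩, coatom_conj hw hfixH htrans hidx⟩
  · -- maximality of the point stabilizer
    rw [← hst]
    obtain ⟨hidx', q1, q2, h1, h2⟩ := G24Idx.orbits_thm
    have hsz : ∀ i, (MulAction.orbit (subH Rels G24Idx.S) (![q1, q2] i)).ncard = G24Simple.sz i := by
      intro i
      fin_cases i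
      · exact h1
      · exact h2
    have hmax := Simp.coatom_of_orbits (subH Rels G24Idx.S) hidx' ![q1, q2] G24Simple.sz hsz
      (by
        intro i j hij heq
        have hc : G24Simple.sz i = G24Simple.sz j := by rw [← hsz i, ← hsz j, heq]
        exact G24Simple.hpair i j hij hc)
      (by decide) (by decide) G24Simple.hdvd
    refine ⟨?_, fun M hlt => (hmax M hlt.le).resolve_left hlt.ne'⟩
    intro htop
    rw [htop, Subgroup.index_top] at hidx
    norm_num at hidx
  · -- the isomorphism with J2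
    rw [← hst, ← psiJ_range]
    exact (MonoidHom.ofInjective hinj).symm

end Cfsg.Agent.Lib.Helper4.G24E
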