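import Cfsg.Agent.Lib.Helper4.G24E.E8

set_option autoImplicit false

/-! # G2(4) over any field with four elements acts extremely primitively on the cosets of J2 -/

namespace Cfsg.Agent.Lib.Helper4.G24E

open Cfsg Cfsg.Agent.Lib.Helper6

theorem extPrim_chevG2 {F : Type*} [Field F] [Fintype F] (hF : Fintype.card F = 4) :
    ExtPrim ↥(Cfsg.Lie.chevG2.group F) Cfsg.Spor.J2 := by
  have e1 : TCP.G24.G ≃* ↥(Cfsg.Lie.chevG2.group Cfsg.Agent.Lib.Helper1.Hexa.F4) := G24Mat.iso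
  have hc : Fintype.card Cfsg.Agent.Lib.Helper1.Hexa.F4 = Fintype.card F := by
    rw [hF]
    rfl
  have e2 : ↥(Cfsg.Lie.chevG2.group Cfsg.Agent.Lib.Helper1.Hexa.F4) ≃* ↥(Cfsg.Lie.chevG2.group F) :=
    Cfsg.Agent.Lib.Helper3.ChevRE.groupRingEquiv Cfsg.Lie.chevG2
      (FiniteField.ringEquivOfCardEq hc)
  exact extPrim_congr Cfsg.Agent.Lib.Helper4.J2.isoJ2.symm
    (extPrim_of_equiv (e1.trans e2) extPrim_G24)

end Cfsg.Agent.Lib.Helper4.G24E
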